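import Groth.Agent.PtTop.Catenary
import Mathlib.Topology.Sober

/-! Dimension functions on sober spaces. -/

set_option autoImplicit false
universe u
open TopologicalSpace

namespace Groth.Agent.PtDimFun

variable {X : Type u} [TopologicalSpace X] [QuasiSober X] [T0Space X]

/-- generic point -/
noncomputable def pt (T : IrreducibleCloseds X) : X :=
  (QuasiSober.sober T.isIrreducible T.isClosed).choose

theorem pt_spec (T : IrreducibleCloseds X) : IsGenericPoint (pt T) (T : Set X) :=
  (QuasiSober.sober T.isIrreducible T.isClosed).choose_spec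

theorem le_iff {T T' : IrreducibleCloseds X} : T ≤ T' ↔ pt T' ⤳ pt T := by
  constructor
  · exact fun h => (pt_spec T').specializes (h (pt_spec T).mem)
  · intro h
    show (T : Set X) ⊆ T'
    rw [← (pt_spec T).def, ← (pt_spec T').def]
    exact specializes_iff_closure_subset.1 h

theorem pt_injective : Function.Injective (pt (X := X)) := fun T T' h =>
  SetLike.coe_injective (by rw [← (pt_spec T).def, h, (pt_spec T').def])

variable {δ : X → ℤ} (hδ : PtTop.IsDimensionFunction δ)
include hδ

theorem lt {T T' : IrreducibleCloseds X} (h : T < T') : δ (pt T) < δ (pt T') :=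
  hδ.1 _ _ (le_iff.1 h.le) fun e => h.ne (pt_injective e).symm

theorem covBy {T T' : IrreducibleCloseds X} (h : T ⋖ T') : δ (pt T') = δ (pt T) + 1 := by
  refine hδ.2 _ _ ⟨le_iff.1 h.le, fun e => h.ne (pt_injective e).symm, fun z h1 h2 => ?_⟩
  let Z : IrreducibleCloseds X := ⟨closure {z}, isIrreducible_singleton.closure, isClosed_closure⟩
  have hZ : pt Z = z := (pt_spec Z).eq (isGenericPoint_closure (x := z))
  rcases h.eq_or_eq (c := Z) (le_iff.2 (hZ.symm ▸ h2)) (le_iff.2 (hZ.symm ▸ h1)) with e | e
  · exact Or.inr (hZ ▸ congrArg pt e)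
  · exact Or.inl (hZ ▸ congrArg pt e)

theorem series_le (s : LTSeries (IrreducibleCloseds X)) :
    δ (pt s.head) + s.length ≤ δ (pt s.last) := by
  have : ∀ i : Fin (s.length + 1), δ (pt s.head) + (i : ℕ) ≤ δ (pt (s i)) := by
    intro i
    induction i using Fin.induction with
    | zero => simp [RelSeries.head]
    | succ i ih =>
      have := lt hδ (s.step i)
      simp only [Fin.val_succ, Fin.val_castSucc] at *
      push_cast
      omega
  simpa [RelSeries.last] using this (Fin.last _)

theorem series_eq (s : LTSeries (IrreducibleCloseds X)) (hs : PtCat.Sat s) :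
    δ (pt s.head) + s.length = δ (pt s.last) := by
  have : ∀ i : Fin (s.length + 1), δ (pt s.head) + (i : ℕ) = δ (pt (s i)) := by
    intro i
    induction i using Fin.induction with
    | zero => simp [RelSeries.head]
    | succ i ih =>
      have := covBy hδ (hs i)
      simp only [Fin.val_succ, Fin.val_castSucc] at *
      push_cast
      omega
  simpa [RelSeries.last] using this (Fin.last _)

theorem bd (T T' : IrreducibleCloseds X) : PtCat.Bd T T' (δ (pt T') - δ (pt T)).toNat := by
  intro s hs hs'
  have h1 := series_le hδ s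
  rw [hs] at h1
  have h2 : δ (pt s.last) ≤ δ (pt T') := by
    rcases hs'.lt_or_eq with h | h
    · exact (lt hδ h).le
    · rw [h]
  omega

theorem sat_length {T T' : IrreducibleCloseds X} (s : LTSeries (IrreducibleCloseds X))
    (hs : s.head = T) (hs' : s.last = T') (h : PtCat.Sat s) :
    s.length = (δ (pt T') - δ (pt T)).toNat := by
  have := series_eq hδ s h
  rw [hs, hs'] at this
  omega

theorem isCatenary : PtTop.IsCatenarySpace X :=
  PtCat.isCatenary_iff.2 fun T T' _ =>
    ⟨_, bd hδ T T', fun s hs hs' h => sat_length hδ s hs hs' h⟩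

theorem codim_closure {x y : X} (h : x ⤳ y) :
    PtTop.codim (⟨closure {y}, isIrreducible_singleton.closure, isClosed_closure⟩ :
      IrreducibleCloseds X) (closure {x}) = ((δ x - δ y).toNat : ℕ∞) := by
  let T : IrreducibleCloseds X := ⟨closure {y}, isIrreducible_singleton.closure, isClosed_closure⟩
  let T' : IrreducibleCloseds X := ⟨closure {x}, isIrreducible_singleton.closure, isClosed_closure⟩
  have hT : T ≤ T' := specializes_iff_closure_subset.1 h
  obtain ⟨s, hs, hs', hsat, hmax⟩ := PtCat.exists_max hT (bd hδ T T')
  refine (PtCat.codim_eq (T := T) (T' := T') hs hs'.le hmax).trans ?_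
  rw [sat_length hδ s hs hs' hsat, (pt_spec T').eq (isGenericPoint_closure (x := x)),
    (pt_spec T).eq (isGenericPoint_closure (x := y))]

end Groth.Agent.PtDimFun
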