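import Groth.Prelude.Def_W4stktopologysheavesDim
import Mathlib.Topology.LocallyClosed

/-! Catenary spaces as an order property of the poset of irreducible closed subsets. -/

set_option autoImplicit false
universe u v
open TopologicalSpace

namespace Groth.Agent.PtCat

variable {P : Type u} {Q : Type v} [PartialOrder P] [PartialOrder Q]

/-- Saturated series. -/
def Sat (s : LTSeries P) : Prop := ∀ i : Fin s.length, s (Fin.castSucc i) ⋖ s (Fin.succ i)

/-- `n` bounds the chains starting at `a` below `b`. -/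
def Bd (a b : P) (n : ℕ) : Prop :=
  ∀ s : LTSeries P, s.head = a → s.last ≤ b → s.length ≤ n

/-- Order-theoretic catenarity. -/
def Cat (P : Type u) [PartialOrder P] : Prop :=
  ∀ a b : P, a ≤ b → ∃ n : ℕ, Bd a b n ∧
    ∀ s : LTSeries P, s.head = a → s.last = b → Sat s → s.length = n

theorem exists_max {a b : P} {n : ℕ} (hab : a ≤ b) (h : Bd a b n) :
    ∃ s : LTSeries P, s.head = a ∧ s.last = b ∧ Sat s ∧ Bd a b s.length := by
  classical
  let L : ℕ → Prop := fun k => ∃ s : LTSeries P, s.head = a ∧ s.last ≤ b ∧ s.length = k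
  have h0 : L 0 := ⟨RelSeries.singleton _ a, rfl, hab, rfl⟩
  obtain ⟨s, hs, hsb, hk⟩ := Nat.findGreatest_spec (Nat.zero_le n) h0
  have hmax : Bd a b s.length := fun t ht htb => by
    rw [hk]
    exact Nat.le_findGreatest (h t ht htb) ⟨t, ht, htb, rfl⟩
  refine ⟨s, hs, ?_, fun i => ⟨s.step i, fun c h1 h2 => ?_⟩, hmax⟩
  · refine hsb.eq_of_not_lt fun hlt => ?_
    have := hmax (s.snoc b hlt) ((RelSeries.head_snoc s b hlt).trans hs) (by rw [RelSeries.last_snoc])
    simp [RelSeries.snoc, RelSeries.append] at this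
  · have hh : (s.insertNth i c h1 h2).head = a := by
      rw [← hs]
      show Fin.insertNth (α := fun _ => P) (Fin.castSucc i.succ) c s.toFun 0 = s 0
      rw [Fin.insertNth_apply_below (by simp [Fin.lt_def])]
      simp
    have hl : (s.insertNth i c h1 h2).last = s.last := by
      show Fin.insertNth (α := fun _ => P) (Fin.castSucc i.succ) c s.toFun (Fin.last _) = s (Fin.last _)
      rw [Fin.insertNth_apply_above (Fin.castSucc_lt_last _)]
      simp
      rfl
    have := hmax _ hh (hl ▸ hsb)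
    simp [RelSeries.insertNth] at this

theorem sat_smash {p q : LTSeries P} (h : p.last = q.head) (hp : Sat p) (hq : Sat q) :
    Sat (p.smash q h) := by
  refine Fin.addCases (fun i => ?_) (fun i => ?_)
  · exact (RelSeries.smash_castAdd h i).symm ▸ (RelSeries.smash_succ_castAdd h i).symm ▸ hp i
  · exact (RelSeries.smash_natAdd h i).symm ▸ (RelSeries.smash_succ_natAdd h i).symm ▸ hq i

theorem mem_Icc {a b : P} (s : LTSeries P) (h : s.head = a) (h' : s.last ≤ b)
    (i : Fin (s.length + 1)) : s i ∈ Set.Icc a b :=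
  ⟨h ▸ LTSeries.head_le s i, le_trans (s.monotone (Fin.le_last i)) h'⟩

theorem sat_cons {p : LTSeries P} {x : P} {hx : x < p.head} (h : Sat (p.cons x hx)) :
    x ⋖ p.head ∧ Sat p := by
  have e : ∀ j : Fin (p.length + 1), (p.cons x hx) (Fin.cast (by simp) j.succ) = p j :=
    RelSeries.cons_cast_succ p x hx
  refine ⟨?_, fun i => ?_⟩
  · have := h ⟨0, by simp⟩
    rw [← show (p.cons x hx) (Fin.succ ⟨0, by simp⟩) = p.head from e 0]
    rwa [show (p.cons x hx) (Fin.castSucc ⟨0, by simp⟩) = x from RelSeries.head_cons p x hx] at this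
  · have := h ⟨i.1 + 1, by simp⟩
    rwa [show (p.cons x hx) (Fin.castSucc ⟨i.1 + 1, by simp⟩) = p i.castSucc from e i.castSucc,
      show (p.cons x hx) (Fin.succ ⟨i.1 + 1, by simp⟩) = p i.succ from e i.succ] at this

variable (φ : P ↪o Q)

/-- pull back a series lying in the range -/
theorem exists_comap (t : LTSeries Q) (ht : ∀ i, t i ∈ Set.range φ) :
    ∃ s : LTSeries P, s.map φ φ.strictMono = t := by
  choose f hf using ht
  refine ⟨⟨t.length, f, fun i => ?_⟩, ?_⟩
  · show f _ < f _
    rw [← φ.lt_iff_lt, hf, hf]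
    exact t.step i
  · cases t with
    | mk l g st =>
      show RelSeries.mk l _ _ = _
      congr 1
      exact funext hf

theorem sat_map_iff (hφ : (Set.range φ).OrdConnected) (s : LTSeries P) :
    Sat (s.map φ φ.strictMono) ↔ Sat s := by
  constructor
  · intro h i
    exact (h i).of_image φ
  · intro h i
    exact (h i).image φ hφ

theorem cat_of_range (hφ : (Set.range φ).OrdConnected) (hQ : Cat Q) : Cat P := by
  intro a b hab
  obtain ⟨n, hn, hsat⟩ := hQ (φ a) (φ b) (φ.le_iff_le.2 hab)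
  exact ⟨n, fun s hs hsb => hn (s.map φ φ.strictMono) (congrArg φ hs) (φ.le_iff_le.2 hsb),
    fun s hs hsb h => hsat (s.map φ φ.strictMono) (congrArg φ hs) (congrArg φ hsb)
      ((sat_map_iff φ hφ s).2 h)⟩

/-- transfer back on the range -/
theorem cat_at (hφ : (Set.range φ).OrdConnected) (hP : Cat P) {a b : P} (hab : φ a ≤ φ b) :
    ∃ n : ℕ, Bd (φ a) (φ b) n ∧
      ∀ s : LTSeries Q, s.head = φ a → s.last = φ b → Sat s → s.length = n := by
  obtain ⟨n, hn, hsat⟩ := hP a b (φ.le_iff_le.1 hab)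
  have hr : ∀ t : LTSeries Q, t.head = φ a → t.last ≤ φ b → ∀ i, t i ∈ Set.range φ :=
    fun t ht htb i => hφ.out ⟨a, rfl⟩ ⟨b, rfl⟩ (mem_Icc t ht htb i)
  refine ⟨n, fun t ht htb => ?_, fun t ht htb h => ?_⟩
  · obtain ⟨s, rfl⟩ := exists_comap φ t (hr t ht htb)
    exact hn s (φ.injective ht) (φ.le_iff_le.1 htb)
  · obtain ⟨s, rfl⟩ := exists_comap φ t (hr t ht htb.le)
    exact hsat s (φ.injective ht) (φ.injective htb) ((sat_map_iff φ hφ s).1 h)

section Space

variable {X : Type u} [TopologicalSpace X]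

theorem codim_le_iff {T T' : IrreducibleCloseds X} {n : ℕ} :
    PtTop.codim T (T' : Set X) ≤ n ↔ Bd T T' n := by
  simp only [PtTop.codim, iSup_le_iff, Nat.cast_le, and_imp]
  rfl

theorem le_codim {T : IrreducibleCloseds X} {S : Set X} {s : LTSeries (IrreducibleCloseds X)}
    (h : s.head = T) (h' : (s.last : Set X) ⊆ S) : (s.length : ℕ∞) ≤ PtTop.codim T S :=
  le_iSup₂_of_le s ⟨h, h'⟩ le_rfl

theorem codim_eq {T T' : IrreducibleCloseds X} {s : LTSeries (IrreducibleCloseds X)}
    (h : s.head = T) (h' : s.last ≤ T') (hb : Bd T T' s.length) :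
    PtTop.codim T (T' : Set X) = s.length :=
  le_antisymm (codim_le_iff.2 hb) (le_codim h h')

theorem isCatenary_iff : PtTop.IsCatenarySpace X ↔ Cat (IrreducibleCloseds X) := by
  constructor
  · intro h T T' hT
    obtain ⟨h1, h2⟩ := h T T' hT
    obtain ⟨n, hn⟩ := ENat.ne_top_iff_exists.1 h1
    exact ⟨n, codim_le_iff.1 hn.ge, fun s hs hs' h => by
      have := h2 s hs hs' h
      rw [← hn] at this
      exact_mod_cast this⟩
  · intro h T T' hT
    obtain ⟨n, hn, hsat⟩ := h T T' hT
    refine ⟨ne_top_of_le_ne_top (ENat.natCast_ne_top n) (codim_le_iff.2 hn), fun s hs hs' h => ?_⟩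
    rw [codim_eq hs hs'.le]
    exact hsat s hs hs' h ▸ hn

end Space

end Groth.Agent.PtCat

namespace Groth.Agent.PtCat

open Topology

variable {X : Type u} [TopologicalSpace X] (S : Set X)

theorem map_inter (T : IrreducibleCloseds S) :
    (Subtype.val : S → X) ⁻¹' closure (Subtype.val '' (T : Set S)) = T := by
  rw [← Topology.IsInducing.subtypeVal.closure_eq_preimage_closure_image, T.isClosed.closure_eq]

/-- closure as an order embedding -/
def incl : IrreducibleCloseds S ↪o IrreducibleCloseds X :=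
  OrderEmbedding.ofMapLEIff (IrreducibleCloseds.map Subtype.val continuous_subtype_val) fun T T' => by
    constructor
    · intro h
      have := Set.preimage_mono (f := (Subtype.val : S → X))
        (show closure (Subtype.val '' (T : Set S)) ⊆ closure (Subtype.val '' (T' : Set S)) from h)
      rwa [map_inter, map_inter] at this
    · exact fun h => closure_mono (Set.image_mono h)

variable {S}

theorem mem_range_incl (hS : IsLocallyClosed S) {T : IrreducibleCloseds X} :
    T ∈ Set.range (incl S) ↔ ((T : Set X) ∩ S).Nonempty ∧ (T : Set X) ⊆ closure S := by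
  constructor
  · rintro ⟨A, rfl⟩
    obtain ⟨a, ha⟩ := A.isIrreducible.nonempty
    exact ⟨⟨a.1, subset_closure ⟨a, ha, rfl⟩, a.2⟩,
      closure_mono (Subtype.coe_image_subset S (A : Set S))⟩
  · rintro ⟨hne, hsub⟩
    have hU : IsOpen (coborder S) := hS.isOpen_coborder
    have hTS : (T : Set X) ∩ S = (T : Set X) ∩ coborder S := by
      refine Set.Subset.antisymm (Set.inter_subset_inter_right _ subset_coborder) ?_
      rintro x ⟨hx, hx'⟩
      exact ⟨hx, coborder_inter_closure.le ⟨hx', hsub hx⟩⟩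
    have hirr : IsIrreducible ((Subtype.val : S → X) ⁻¹' (T : Set X)) := by
      refine ⟨?_, ?_⟩
      · obtain ⟨x, hx, hx'⟩ := hne
        exact ⟨⟨x, hx'⟩, hx⟩
      · intro u v hu hv hu' hv'
        obtain ⟨u₀, hu₀, rfl⟩ := isOpen_induced_iff.1 hu
        obtain ⟨v₀, hv₀, rfl⟩ := isOpen_induced_iff.1 hv
        obtain ⟨a, ha, hau⟩ := hu'
        obtain ⟨b, hb, hbv⟩ := hv'
        obtain ⟨x, hx, ⟨hxu, hxU⟩, hxv, -⟩ := T.isIrreducible.isPreirreducible
          (u₀ ∩ coborder S) (v₀ ∩ coborder S) (hu₀.inter hU) (hv₀.inter hU)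
          ⟨a.1, ha, hau, subset_coborder a.2⟩ ⟨b.1, hb, hbv, subset_coborder b.2⟩
        have : x ∈ (T : Set X) ∩ S := hTS ▸ ⟨hx, hxU⟩
        exact ⟨⟨x, this.2⟩, hx, hxu, hxv⟩
    refine ⟨⟨_, hirr, T.isClosed.preimage continuous_subtype_val⟩, SetLike.coe_injective ?_⟩
    show closure ((Subtype.val : S → X) '' (Subtype.val ⁻¹' (T : Set X))) = T
    rw [Subtype.image_preimage_coe, Set.inter_comm, hTS]
    refine Set.Subset.antisymm (closure_minimal Set.inter_subset_left T.isClosed) ?_
    exact subset_closure_inter_of_isPreirreducible_of_isOpen T.isIrreducible.isPreirreducible hU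
      (hTS ▸ hne)

theorem ordConnected_range_incl (hS : IsLocallyClosed S) :
    (Set.range (incl S)).OrdConnected := by
  refine ⟨fun A hA B hB C hC => ?_⟩
  rw [mem_range_incl hS] at hA hB ⊢
  exact ⟨hA.1.mono (Set.inter_subset_inter_left _ (SetLike.coe_subset_coe.2 hC.1)), (SetLike.coe_subset_coe.2 hC.2).trans hB.2⟩

end Groth.Agent.PtCat
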