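import Mathlib.Topology.Separation.Hausdorff
import Mathlib.Topology.Compactness.Compact
import Mathlib.Order.Filter.Finite

set_option autoImplicit false
universe u v
open Set Filter Topology

namespace Groth.Agent.PtTop

variable {X : Type u} [TopologicalSpace X] {Z : Set X}

/-- Points of `Z` are pairwise separated by opens of the ambient space. -/
def RelT2 (Z : Set X) : Prop := ∀ z ∈ Z, ∀ z' ∈ Z, z ≠ z' → Disjoint (𝓝 z) (𝓝 z')

theorem RelT2.disjoint_nhdsSet (hs : RelT2 Z) {A B : Set X} (hA : IsCompact A) (hB : IsCompact B)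
    (hAZ : A ⊆ Z) (hBZ : B ⊆ Z) (h : Disjoint A B) : Disjoint (𝓝ˢ A) (𝓝ˢ B) :=
  hA.disjoint_nhdsSet_left.2 fun a ha => hB.disjoint_nhdsSet_right.2 fun b hb =>
    hs a (hAZ ha) b (hBZ hb) fun e => h.le_bot ⟨ha, e ▸ hb⟩

theorem RelT2.inf_nhdsSet_le (hs : RelT2 Z) (hZ : IsCompact Z) {C D : Set X} (hC : IsClosed C)
    (hD : IsClosed D) : 𝓝ˢ (Z ∩ C) ⊓ 𝓝ˢ (Z ∩ D) ≤ 𝓝ˢ (Z ∩ (C ∩ D)) := by
  intro W hW
  obtain ⟨W', hW'o, hW's, hW'W⟩ := mem_nhdsSet_iff_exists.1 hW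
  have hd := hs.disjoint_nhdsSet ((hZ.inter_right hC).diff hW'o) ((hZ.inter_right hD).diff hW'o)
    (fun x hx => hx.1.1) (fun x hx => hx.1.1)
    (Set.disjoint_left.2 fun x hx hx' => hx.2 (hW's ⟨hx.1.1, hx.1.2, hx'.1.2⟩))
  obtain ⟨O₁, hO₁, O₂, hO₂, hOd⟩ := Filter.disjoint_iff.1 hd
  refine mem_inf_iff_superset.2 ⟨O₁ ∪ W', ?_, O₂ ∪ W', ?_, ?_⟩
  · have := union_mem_nhdsSet hO₁ (hW'o.mem_nhdsSet.2 (subset_refl W'))
    exact nhdsSet_mono (by rw [Set.sdiff_union_self]; exact subset_union_left) this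
  · have := union_mem_nhdsSet hO₂ (hW'o.mem_nhdsSet.2 (subset_refl W'))
    exact nhdsSet_mono (by rw [Set.sdiff_union_self]; exact subset_union_left) this
  · rintro x ⟨h1 | h1, h2 | h2⟩
    · exact absurd h2 (fun h2 => Set.disjoint_left.1 hOd h1 h2)
    all_goals first | exact hW'W h2 | exact hW'W h1

theorem RelT2.iInf_nhdsSet_le (hs : RelT2 Z) (hZ : IsCompact Z) {n : ℕ} (C : Fin (n + 1) → Set X)
    (hC : ∀ l, IsClosed (C l)) : ⨅ l, 𝓝ˢ (Z ∩ C l) ≤ 𝓝ˢ (Z ∩ ⋂ l, C l) := by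
  induction n with
  | zero =>
    refine (iInf_le _ 0).trans (nhdsSet_mono ?_)
    exact inter_subset_inter_right Z (subset_iInter fun l => by rw [Fin.fin_one_eq_zero l])
  | succ n ih =>
    have h : (⋂ l, C l) = C 0 ∩ ⋂ l, C (Fin.succ l) := by
      ext x; simp [Fin.forall_fin_succ]
    rw [h]
    refine le_trans ?_ (hs.inf_nhdsSet_le hZ (hC 0) (isClosed_iInter fun l => hC _))
    exact le_inf (iInf_le _ 0) (le_trans (le_iInf fun l => iInf_le _ (Fin.succ l)) (ih _ fun l => hC _))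

/-- A finite family of small opens covering `Z`, refining `U`. -/
theorem RelT2.exists_shrink (hs : RelT2 Z) (hZ : IsCompact Z) {ι : Type v} (U : ι → Set X)
    (hU : ∀ i, IsOpen (U i)) (hcov : Z ⊆ ⋃ i, U i) (G : X → Set X)
    (hG : ∀ z ∈ Z, G z ∈ 𝓝 z) :
    ∃ (F : Finset X) (N : X → Set X) (idx : F → ι), (↑F ⊆ Z) ∧ (∀ z, IsOpen (N z)) ∧
      (Z ⊆ ⋃ z : F, N z) ∧ (∀ z : F, N z ⊆ U (idx z) ∧ closure (N z) ∩ Z ⊆ U (idx z) ∧ N z ⊆ G z) := by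
  have key : ∀ z : X, ∃ N : Set X, IsOpen N ∧ (z ∈ Z → z ∈ N ∧ N ⊆ G z ∧
      ∃ i, N ⊆ U i ∧ closure N ∩ Z ⊆ U i) := by
    intro z
    by_cases hz : z ∈ Z
    · obtain ⟨i, hi⟩ := mem_iUnion.1 (hcov hz)
      have hd := hs.disjoint_nhdsSet isCompact_singleton (hZ.diff (hU i))
        (singleton_subset_iff.2 hz) (fun x hx => hx.1)
        (Set.disjoint_singleton_left.2 fun h => h.2 hi)
      obtain ⟨A, hA, B, hB, hAB⟩ := Filter.disjoint_iff.1 hd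
      rw [nhdsSet_singleton] at hA
      have hm : A ∩ U i ∩ G z ∈ 𝓝 z := inter_mem (inter_mem hA ((hU i).mem_nhds hi)) (hG z hz)
      refine ⟨interior (A ∩ U i ∩ G z), isOpen_interior, fun _ =>
        ⟨mem_interior_iff_mem_nhds.2 hm, fun x hx => (interior_subset hx).2, i,
          fun x hx => (interior_subset hx).1.2, ?_⟩⟩
      rintro x ⟨hx, hxZ⟩
      by_contra hxU
      have hxB : B ∈ 𝓝 x := nhds_le_nhdsSet (show x ∈ Z \ U i from ⟨hxZ, hxU⟩) hB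
      obtain ⟨y, hy1, hy2⟩ := mem_closure_iff_nhds.1 hx B hxB
      exact Set.disjoint_left.1 hAB (interior_subset hy2).1.1 hy1
    · exact ⟨∅, isOpen_empty, fun h => absurd h hz⟩
  choose N hNo hN using key
  obtain ⟨F, hFZ, hF⟩ := hZ.elim_nhds_subcover N fun z hz => (hNo z).mem_nhds (hN z hz).1
  choose idx hidx using fun z : F => (hN z (hFZ z z.2)).2.2
  refine ⟨F, N, idx, fun z hz => hFZ z hz, hNo, ?_, fun z =>
    ⟨(hidx z).1, (hidx z).2, (hN z (hFZ z z.2)).2.1⟩⟩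
  intro x hx
  obtain ⟨z, hz, hxz⟩ := mem_iUnion₂.1 (hF hx)
  exact mem_iUnion.2 ⟨⟨z, hz⟩, hxz⟩

theorem RelT2.exists_lifting_cover (hs : RelT2 Z) (hZ : IsCompact Z) {ι : Type v} (U : ι → Set X)
    (hU : ∀ i, IsOpen (U i)) (hcov : Z ⊆ ⋃ i, U i) (p : ℕ)
    (W : (Fin (p + 1) → ι) → Set X) (hWo : ∀ t, IsOpen (W t))
    (hWZ : ∀ t, W t ∩ Z = (⋂ l, U (t l)) ∩ Z) (G : X → Set X) (hG : ∀ z ∈ Z, G z ∈ 𝓝 z) :
    ∃ V : ι → Set X, (∀ i, IsOpen (V i)) ∧ (Z ⊆ ⋃ i, V i) ∧ (∀ i, V i ⊆ U i) ∧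
      (∀ i, closure (V i) ∩ Z ⊆ U i) ∧ (∀ t : Fin (p + 1) → ι, (⋂ l, V (t l)) ⊆ W t) ∧
      (∀ i, ∃ T : Finset X, ↑T ⊆ Z ∧ V i ⊆ ⋃ z ∈ T, G z) := by
  classical
  obtain ⟨F, N, idx, hFZ, hNo, hNcov, hN⟩ := hs.exists_shrink hZ U hU hcov G hG
  have step : ∀ τ : Fin (p + 1) → F, ∃ O : Fin (p + 1) → Set X,
      (∀ l, O l ∈ 𝓝ˢ (Z ∩ closure (N (τ l)))) ∧ (⋂ l, O l) ⊆ W (idx ∘ τ) := by
    intro τ
    have hmem : W (idx ∘ τ) ∈ 𝓝ˢ (Z ∩ ⋂ l, closure (N (τ l))) := by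
      refine (hWo _).mem_nhdsSet.2 fun x hx => ?_
      have : x ∈ (⋂ l, U ((idx ∘ τ) l)) ∩ Z :=
        ⟨mem_iInter.2 fun l => (hN (τ l)).2.1 ⟨mem_iInter.1 hx.2 l, hx.1⟩, hx.1⟩
      rw [← hWZ] at this
      exact this.1
    obtain ⟨O, hO, hOeq⟩ := (mem_iInf_of_finite _).1
      (hs.iInf_nhdsSet_le hZ _ (fun l => isClosed_closure) hmem)
    exact ⟨O, hO, hOeq ▸ subset_rfl⟩
  choose O hO hOW using step
  let M : F → Set X := fun z => N z ∩ ⋂ (τ : Fin (p + 1) → F) (l : Fin (p + 1)) (_ : τ l = z), interior (O τ l)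
  have hMo : ∀ z, IsOpen (M z) := fun z => (hNo z).inter
    (isOpen_iInter_of_finite fun τ => isOpen_iInter_of_finite fun l =>
      isOpen_iInter_of_finite fun _ => isOpen_interior)
  refine ⟨fun i => ⋃ (z : F) (_ : idx z = i), M z,
    fun i => isOpen_iUnion fun z => isOpen_iUnion fun _ => hMo z, ?_, ?_, ?_, ?_, ?_⟩
  · intro x hx
    obtain ⟨z, hz⟩ := mem_iUnion.1 (hNcov hx)
    refine mem_iUnion.2 ⟨idx z, mem_iUnion₂.2 ⟨z, rfl, hz, ?_⟩⟩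
    simp only [mem_iInter]
    intro τ l hl
    exact subset_interior_iff_mem_nhdsSet.2 (hO τ l) ⟨hx, subset_closure (hl ▸ hz)⟩
  · intro i x hx
    obtain ⟨z, rfl, hz⟩ := mem_iUnion₂.1 hx
    exact (hN z).1 hz.1
  · intro i x hx
    have : closure (⋃ (z : F) (_ : idx z = i), M z) ⊆ ⋃ (z : F) (_ : idx z = i), closure (N z) :=
      closure_minimal (fun y hy => by
          obtain ⟨z, e, hz⟩ := mem_iUnion₂.1 hy
          exact mem_iUnion₂.2 ⟨z, e, subset_closure hz.1⟩)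
        (isClosed_iUnion_of_finite fun z => isClosed_iUnion_of_finite fun _ => isClosed_closure)
    obtain ⟨z, rfl, hz⟩ := mem_iUnion₂.1 (this hx.1)
    exact (hN z).2.1 ⟨hz, hx.2⟩
  · intro t x hx
    simp only [mem_iInter] at hx
    choose τ hτ hxτ using fun l => mem_iUnion₂.1 (hx l)
    have e : idx ∘ τ = t := funext hτ
    rw [← e]
    refine hOW τ (mem_iInter.2 fun l => interior_subset ?_)
    have := (hxτ l).2
    simp only [mem_iInter] at this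
    exact this τ l rfl
  · intro i
    refine ⟨F, hFZ, fun x hx => ?_⟩
    obtain ⟨z, _, hz⟩ := mem_iUnion₂.1 hx
    exact mem_iUnion₂.2 ⟨z, z.2, (hN z).2.2 hz.1⟩

theorem exists_cech_refinement {X : Type u} [TopologicalSpace X] [CompactSpace X] [T2Space X]
    {ι : Type v} (U : ι → Set X) (hU : ∀ i, IsOpen (U i)) (hcov : ⋃ i, U i = univ) (p : ℕ)
    (W : (Fin (p + 1) → ι) → Set (Set X)) (hWo : ∀ t, ∀ w ∈ W t, IsOpen w)
    (hWc : ∀ t, ⋃₀ W t = ⋂ l, U (t l)) (hWne : ∀ t, (W t).Nonempty) :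
    ∃ (J : Type u) (V : J → Set X) (α : J → ι), (∀ j, IsOpen (V j)) ∧ (⋃ j, V j = univ) ∧
      (∀ j, closure (V j) ⊆ U (α j)) ∧
      (∀ t : Fin (p + 1) → J, ∃ w ∈ W (α ∘ t), (⋂ l, V (t l)) ⊆ w) := by
  classical
  have hs : RelT2 (univ : Set X) := fun z _ z' _ h => disjoint_nhds_nhds.2 h
  obtain ⟨F, N, idx, -, hNo, hNcov, hN⟩ := hs.exists_shrink isCompact_univ U hU hcov.ge
    (fun _ => univ) (fun _ _ => univ_mem)
  have key : ∀ x : X, ∃ (G : Set X) (z : F), IsOpen G ∧ x ∈ G ∧ G ⊆ N z ∧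
      ∀ τ : Fin (p + 1) → F, (∃ w ∈ W (idx ∘ τ), G ⊆ w) ∨ ∃ l, Disjoint G (closure (N (τ l))) := by
    intro x
    obtain ⟨z, hz⟩ := mem_iUnion.1 (hNcov (mem_univ x))
    have each : ∀ τ : Fin (p + 1) → F, ∃ H : Set X, IsOpen H ∧ x ∈ H ∧
        ((∃ w ∈ W (idx ∘ τ), H ⊆ w) ∨ ∃ l, Disjoint H (closure (N (τ l)))) := by
      intro τ
      by_cases h : ∀ l, x ∈ closure (N (τ l))
      · have : x ∈ ⋃₀ W (idx ∘ τ) := by
          rw [hWc]; exact mem_iInter.2 fun l => (hN (τ l)).2.1 ⟨h l, mem_univ x⟩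
        obtain ⟨w, hw, hxw⟩ := mem_sUnion.1 this
        exact ⟨w, hWo _ w hw, hxw, Or.inl ⟨w, hw, subset_rfl⟩⟩
      · obtain ⟨l, hl⟩ := not_forall.1 h
        exact ⟨(closure (N (τ l)))ᶜ, isClosed_closure.isOpen_compl, hl,
          Or.inr ⟨l, disjoint_compl_left⟩⟩
    choose H hHo hxH hH using each
    refine ⟨N z ∩ ⋂ τ, H τ, z, (hNo z).inter (isOpen_iInter_of_finite hHo),
      ⟨hz, mem_iInter.2 hxH⟩, inter_subset_left, fun τ => ?_⟩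
    have hsub : N z ∩ ⋂ τ, H τ ⊆ H τ := fun y hy => mem_iInter.1 hy.2 τ
    rcases hH τ with ⟨w, hw, hHw⟩ | ⟨l, hl⟩
    · exact Or.inl ⟨w, hw, hsub.trans hHw⟩
    · exact Or.inr ⟨l, hl.mono_left hsub⟩
  choose G zf hGo hxG hGN hG using key
  refine ⟨X, G, fun x => idx (zf x), hGo, eq_univ_of_forall fun x => mem_iUnion.2 ⟨x, hxG x⟩,
    fun x y hy => (hN (zf x)).2.1 ⟨closure_mono (hGN x) hy, mem_univ y⟩, fun t => ?_⟩
  rcases hG (t 0) (zf ∘ t) with ⟨w, hw, hsub⟩ | ⟨l, hl⟩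
  · exact ⟨w, hw, (iInter_subset _ 0).trans hsub⟩
  · obtain ⟨w, hw⟩ := hWne (idx ∘ zf ∘ t)
    refine ⟨w, hw, fun y hy => ?_⟩
    exact absurd (subset_closure (hGN _ (mem_iInter.1 hy l))) (Set.disjoint_left.1 hl (mem_iInter.1 hy 0))

end Groth.Agent.PtTop
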