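import Groth.Prelude.Def_W4stktopologysheavesDim
import Mathlib.Topology.Sober
import Mathlib.Topology.NoetherianSpace
import Mathlib.Topology.Spectral.Basic

/-! The soberification. -/

set_option autoImplicit false
universe u
open TopologicalSpace Topology

namespace Groth.Agent.PtSob

variable {X : Type u} [TopologicalSpace X]

/-- view a point of the soberification as an irreducible closed set -/
abbrev crl (Z : PtTop.Sob X) : IrreducibleCloseds X := Z

/-- the open of the soberification attached to an open of `X` -/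
def meet (U : Set X) : Set (PtTop.Sob X) := {Z | ((crl Z : Set X) ∩ U).Nonempty}

theorem meet_iUnion {ι : Sort*} (U : ι → Set X) : meet (⋃ i, U i) = ⋃ i, meet (U i) := by
  ext Z
  simp only [meet, Set.mem_setOf_eq, Set.inter_iUnion, Set.mem_iUnion, Set.nonempty_iUnion]

theorem meet_univ : meet (Set.univ : Set X) = Set.univ :=
  Set.eq_univ_iff_forall.2 fun Z => by simpa [meet] using (crl Z).isIrreducible.nonempty

theorem meet_inter {U V : Set X} (hU : IsOpen U) (hV : IsOpen V) :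
    meet (U ∩ V) = meet U ∩ meet V := by
  ext Z
  refine ⟨fun ⟨x, hx, hxU, hxV⟩ => ⟨⟨x, hx, hxU⟩, ⟨x, hx, hxV⟩⟩, fun h => ?_⟩
  exact (crl Z).isIrreducible.isPreirreducible U V hU hV h.1 h.2

theorem isOpen_meet {U : Set X} (hU : IsOpen U) : IsOpen (meet U) :=
  TopologicalSpace.GenerateOpen.basic _ ⟨⟨U, hU⟩, rfl⟩

theorem mem_closure_singleton {x : X} {U : Set X} (hU : IsOpen U) :
    (closure ({x} : Set X) ∩ U).Nonempty ↔ x ∈ U := by
  rw [closure_inter_open_nonempty_iff hU]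
  simp

theorem preimage_meet {U : Set X} (hU : IsOpen U) : PtTop.toSob X ⁻¹' meet U = U := by
  ext x
  exact mem_closure_singleton hU

theorem isOpen_iff {S : Set (PtTop.Sob X)} :
    IsOpen S ↔ ∃ U : Set X, IsOpen U ∧ S = meet U := by
  refine ⟨fun h => ?_, fun ⟨U, hU, e⟩ => e ▸ isOpen_meet hU⟩
  induction h with
  | basic s hs =>
    obtain ⟨U, rfl⟩ := hs
    exact ⟨U, U.2, rfl⟩
  | univ => exact ⟨Set.univ, isOpen_univ, meet_univ.symm⟩
  | inter s t _ _ hs ht =>
    obtain ⟨U, hU, rfl⟩ := hs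
    obtain ⟨V, hV, rfl⟩ := ht
    exact ⟨U ∩ V, hU.inter hV, (meet_inter hU hV).symm⟩
  | sUnion S _ ih =>
    choose U hU e using ih
    refine ⟨⋃ s : S, U s.1 s.2, isOpen_iUnion fun s => hU s.1 s.2, ?_⟩
    rw [meet_iUnion, Set.sUnion_eq_iUnion]
    exact Set.iUnion_congr fun s => e s.1 s.2

theorem continuous_toSob : Continuous (PtTop.toSob X) := by
  rw [continuous_def]
  intro S hS
  obtain ⟨U, hU, rfl⟩ := isOpen_iff.1 hS
  rwa [preimage_meet hU]

theorem t0Space : T0Space (PtTop.Sob X) := by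
  refine ⟨fun Z Z' h => ?_⟩
  have key : ∀ A B : PtTop.Sob X, Inseparable A B → (crl A : Set X) ⊆ crl B := by
    intro A B h x hx
    by_contra hc
    obtain ⟨y, hy, hy'⟩ := (h.mem_open_iff (isOpen_meet (crl B).isClosed.isOpen_compl)).1 ⟨x, hx, hc⟩
    exact hy' hy
  exact IrreducibleCloseds.ext (Set.Subset.antisymm (key _ _ h) (key _ _ h.symm))

theorem quasiSober : QuasiSober (PtTop.Sob X) := by
  refine ⟨fun {S} hS hc => ?_⟩
  obtain ⟨U, hU, e⟩ := isOpen_iff.1 hc.isOpen_compl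
  have hS' : ∀ Z : PtTop.Sob X, Z ∈ S ↔ (crl Z : Set X) ⊆ Uᶜ := by
    intro Z
    rw [← not_not (a := Z ∈ S), ← Set.mem_compl_iff, e, Set.subset_compl_iff_disjoint_right,
      Set.disjoint_iff_inter_eq_empty, ← Set.not_nonempty_iff_eq_empty]
    rfl
  let A := closure (⋃ Z ∈ S, (crl Z : Set X))
  have hAU : A ⊆ Uᶜ := closure_minimal (Set.iUnion₂_subset fun Z hZ => (hS' Z).1 hZ) hU.isClosed_compl
  have hA : IsIrreducible A := by
    obtain ⟨Z₀, hZ₀⟩ := hS.nonempty
    refine ⟨(crl Z₀).isIrreducible.nonempty.mono ((Set.subset_biUnion_of_mem hZ₀).trans subset_closure), ?_⟩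
    intro V W hV hW hV' hW'
    simp only [A, closure_inter_open_nonempty_iff hV, closure_inter_open_nonempty_iff hW] at hV' hW'
    obtain ⟨x, hx, hxV⟩ := hV'
    obtain ⟨y, hy, hyW⟩ := hW'
    obtain ⟨Z, hZ, hxZ⟩ := Set.mem_iUnion₂.1 hx
    obtain ⟨Z', hZ', hyZ⟩ := Set.mem_iUnion₂.1 hy
    obtain ⟨T, hT, hTV, hTW⟩ := hS.isPreirreducible _ _ (isOpen_meet hV) (isOpen_meet hW)
      ⟨Z, hZ, ⟨x, hxZ, hxV⟩⟩ ⟨Z', hZ', ⟨y, hyZ, hyW⟩⟩
    obtain ⟨z, hz, hzVW⟩ := (crl T).isIrreducible.isPreirreducible V W hV hW hTV hTW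
    exact ⟨z, subset_closure (Set.mem_biUnion hT hz), hzVW⟩
  let a : PtTop.Sob X := (⟨A, hA, isClosed_closure⟩ : IrreducibleCloseds X)
  have ha : a ∈ S := (hS' a).2 hAU
  refine ⟨a, ?_⟩
  refine Set.Subset.antisymm (closure_minimal (Set.singleton_subset_iff.2 ha) hc) fun Z hZ => ?_
  rw [mem_closure_iff]
  intro O hO hZO
  obtain ⟨V, hV, rfl⟩ := isOpen_iff.1 hO
  obtain ⟨x, hx, hxV⟩ := hZO
  exact ⟨a, ⟨x, subset_closure (Set.mem_biUnion hZ hx), hxV⟩, rfl⟩

theorem bijOn : Set.BijOn (fun U' : Set (PtTop.Sob X) => PtTop.toSob X ⁻¹' U') {U' | IsOpen U'}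
    {U : Set X | IsOpen U} := by
  refine ⟨fun S hS => hS.preimage continuous_toSob, ?_, fun U hU =>
    ⟨meet U, isOpen_meet hU, preimage_meet hU⟩⟩
  intro S hS T hT h
  obtain ⟨U, hU, rfl⟩ := isOpen_iff.1 hS
  obtain ⟨V, hV, rfl⟩ := isOpen_iff.1 hT
  rw [← preimage_meet hU, ← preimage_meet hV]
  exact congrArg meet h

theorem exists_lift {Y : Type*} [TopologicalSpace Y] [QuasiSober Y] [T0Space Y] (f : X → Y)
    (hf : Continuous f) : ∃ g : PtTop.Sob X → Y, Continuous g ∧ g ∘ PtTop.toSob X = f := by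
  have hg : ∀ Z : PtTop.Sob X, ∃ y, IsGenericPoint y (closure (f '' (crl Z : Set X))) := fun Z =>
    QuasiSober.sober ((crl Z).isIrreducible.image f hf.continuousOn).closure isClosed_closure
  choose g hg using hg
  refine ⟨g, continuous_def.2 fun V hV => ?_, funext fun x => ?_⟩
  · have : g ⁻¹' V = meet (f ⁻¹' V) := by
      ext Z
      rw [Set.mem_preimage, (hg Z).mem_open_set_iff hV, closure_inter_open_nonempty_iff hV,
        Set.image_inter_nonempty_iff]
      rfl
    rw [this]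
    exact isOpen_meet (hV.preimage hf)
  · have : closure (f '' closure {x}) = closure {f x} := by
      rw [closure_image_closure hf, Set.image_singleton]
    exact (hg (PtTop.toSob X x)).eq (this ▸ (isGenericPoint_closure (x := f x)))

theorem compactSpace [CompactSpace X] : CompactSpace (PtTop.Sob X) := by
  refine ⟨isCompact_of_finite_subcover fun {ι} O hO hsub => ?_⟩
  choose U hU e using fun i => isOpen_iff.1 (hO i)
  obtain ⟨t, ht⟩ := isCompact_univ.elim_finite_subcover U hU fun x _ => by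
    obtain ⟨i, hi⟩ := Set.mem_iUnion.1 (hsub (Set.mem_univ (PtTop.toSob X x)))
    exact Set.mem_iUnion.2 ⟨i, by rwa [← preimage_meet (hU i), ← e i]⟩
  refine ⟨t, fun Z _ => ?_⟩
  obtain ⟨x, hx⟩ := (crl Z).isIrreducible.nonempty
  obtain ⟨i, hi, hxi⟩ := Set.mem_iUnion₂.1 (ht (Set.mem_univ x))
  exact Set.mem_biUnion hi (e i ▸ ⟨x, hx, hxi⟩)

theorem isCompact_meet {U : Set X} (hU : IsOpen U) : IsCompact (meet U) ↔ IsCompact U := by
  constructor
  · intro h
    refine isCompact_of_finite_subcover fun {ι} V hV hsub => ?_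
    obtain ⟨t, ht⟩ := h.elim_finite_subcover (fun i => meet (V i)) (fun i => isOpen_meet (hV i))
      fun Z ⟨x, hx, hxU⟩ => by
        obtain ⟨i, hi⟩ := Set.mem_iUnion.1 (hsub hxU)
        exact Set.mem_iUnion.2 ⟨i, x, hx, hi⟩
    refine ⟨t, fun x hx => ?_⟩
    obtain ⟨i, hi, hxi⟩ := Set.mem_iUnion₂.1
      (ht (show PtTop.toSob X x ∈ meet U from (mem_closure_singleton hU).2 hx))
    exact Set.mem_biUnion hi ((mem_closure_singleton (hV i)).1 hxi)
  · intro h
    refine isCompact_of_finite_subcover fun {ι} O hO hsub => ?_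
    choose V hV e using fun i => isOpen_iff.1 (hO i)
    obtain ⟨t, ht⟩ := h.elim_finite_subcover V hV fun x hx => by
      obtain ⟨i, hi⟩ := Set.mem_iUnion.1
        (hsub (show PtTop.toSob X x ∈ meet U from (mem_closure_singleton hU).2 hx))
      exact Set.mem_iUnion.2 ⟨i, by rwa [← preimage_meet (hV i), ← e i]⟩
    refine ⟨t, fun Z ⟨x, hx, hxU⟩ => ?_⟩
    obtain ⟨i, hi, hxi⟩ := Set.mem_iUnion₂.1 (ht hxU)
    exact Set.mem_biUnion hi (e i ▸ ⟨x, hx, hxi⟩)

theorem spectralSpace [CompactSpace X] [PrespectralSpace X] [QuasiSeparatedSpace X] :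
    SpectralSpace (PtTop.Sob X) := by
  have := compactSpace (X := X)
  have := t0Space (X := X)
  have := quasiSober (X := X)
  have : QuasiSeparatedSpace (PtTop.Sob X) := ⟨fun A B hA hA' hB hB' => by
    obtain ⟨U, hU, rfl⟩ := isOpen_iff.1 hA
    obtain ⟨V, hV, rfl⟩ := isOpen_iff.1 hB
    rw [← meet_inter hU hV, isCompact_meet (hU.inter hV)]
    exact QuasiSeparatedSpace.inter_isCompact U V hU ((isCompact_meet hU).1 hA') hV
      ((isCompact_meet hV).1 hB')⟩
  have : PrespectralSpace (PtTop.Sob X) := by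
    refine ⟨TopologicalSpace.isTopologicalBasis_of_isOpen_of_nhds (fun _ h => h.1) fun Z O hZ hO => ?_⟩
    obtain ⟨U, hU, rfl⟩ := isOpen_iff.1 hO
    obtain ⟨x, hx, hxU⟩ := hZ
    obtain ⟨V, ⟨hV, hVc⟩, hxV, hVU⟩ :=
      PrespectralSpace.isTopologicalBasis.exists_subset_of_mem_open hxU hU
    exact ⟨meet V, ⟨isOpen_meet hV, (isCompact_meet hV).2 hVc⟩, ⟨x, hx, hxV⟩,
      fun T ⟨y, hy, hyV⟩ => ⟨y, hy, hVU hyV⟩⟩
  constructor

theorem noetherianSpace [NoetherianSpace X] : NoetherianSpace (PtTop.Sob X) := by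
  refine ((noetherianSpace_TFAE _).out 3 0).1 fun O => ?_
  obtain ⟨U, hU, e⟩ := isOpen_iff.1 O.2
  show IsCompact (O : Set (PtTop.Sob X))
  rw [show (O : Set (PtTop.Sob X)) = meet U from e]
  exact (isCompact_meet hU).2 (NoetherianSpace.isCompact U)

end Groth.Agent.PtSob
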